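import Cfsg.Agent.Lib.Char.PermChar
import Cfsg.Agent.Lib.Char.Linear
import Mathlib.GroupTheory.FiniteAbelian.Duality
import Mathlib.RingTheory.RootsOfUnity.AlgebraicallyClosed
import Mathlib.GroupTheory.GroupAction.Quotient
import Mathlib.Algebra.Group.Action.Prod
import Mathlib.Analysis.Complex.Polynomial.Basic

/-!
# Permutation characters with a commuting free abelian action and few orbits on pairs
-/

set_option autoImplicit false
set_option linter.style.haveILetI false
set_option linter.unusedSectionVars false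

namespace Cfsg.Agent.PermFreeTorus

open Cfsg Cfsg.Agent.Char
open scoped ComplexConjugate

variable {G : Type*} [Group G] [Fintype G] {A : Type*} [CommGroup A] [Fintype A]
  {X : Type*} [MulAction G X] [MulAction A X] [Finite X] [SMulCommClass G A X]

/-- The elements multiplying a point by an element of the torus. -/
def lineStab (x : X) : Subgroup G where
  carrier := {g | ∃ a : A, g • x = a • x}
  one_mem' := ⟨1, by rw [one_smul, one_smul]⟩
  mul_mem' := by
    rintro g h ⟨a, ha⟩ ⟨b, hb⟩
    exact ⟨b * a, by rw [mul_smul, hb, smul_comm, ha, mul_smul]⟩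
  inv_mem' := by
    rintro g ⟨a, ha⟩
    exact ⟨a⁻¹, by rw [inv_smul_eq_iff, smul_comm, ha, inv_smul_smul]⟩

theorem decomposition (hfree : ∀ (a b : A) (x : X), a • x = b • x → a = b)
    (htr : ∀ x y : X, ∃ g : G, g • x = y)
    (hind : ∀ x y x' y' : X, (∀ a : A, y ≠ a • x) → (∀ a : A, y' ≠ a • x') → ∃ g : G, g • x = x' ∧ g • y = y')
    (hne : ∃ x y : X, ∀ a : A, y ≠ a • x) :
    ∃ κ : (A →* ℂˣ) → G → ℂ, (∀ θ, IsIrrCharacter G (κ θ)) ∧ Function.Injective κ ∧
      Nat.card (A →* ℂˣ) = Nat.card A ∧
      ∀ g : G, (Nat.card (MulAction.fixedBy X g) : ℂ) = 1 + ∑ᶠ θ, κ θ g := by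
  classical
  obtain ⟨x₀, y₀, hxy⟩ := hne
  haveI := Fintype.ofFinite X
  have hcardC : Nat.card (A →* ℂˣ) = Nat.card A := by
    rw [card_monoidHom_units, (commutator_eq_bot_iff_center_eq_top (G := A)).mpr
      (CommGroup.center_eq_top), Subgroup.index_bot]
  haveI : Finite (A →* ℂˣ) := Nat.finite_of_card_ne_zero (hcardC ▸ Nat.card_pos.ne')
  haveI := Fintype.ofFinite (A →* ℂˣ)
  set P : Subgroup G := lineStab (A := A) x₀ with hP
  set S : Subgroup G := MulAction.stabilizer G x₀ with hS
  have hex : ∀ g : P, ∃ a : A, (g : G) • x₀ = a • x₀ := fun g => g.2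
  choose ch hchoose using hex
  let μ : P →* A :=
    { toFun := ch
      map_one' := hfree _ _ x₀ (by rw [← hchoose 1, Subgroup.coe_one, one_smul, one_smul])
      map_mul' := fun g h => hfree _ _ x₀ (by
        rw [← hchoose (g * h), Subgroup.coe_mul, mul_smul, hchoose h, smul_comm, hchoose g, ← mul_smul, mul_comm]) }
  have hμ : ∀ g : P, (g : G) • x₀ = μ g • x₀ := hchoose
  have hμs : Function.Surjective μ := fun a => by
    obtain ⟨g, hg⟩ := htr x₀ (a • x₀)
    exact ⟨⟨g, a, hg⟩, hfree _ _ x₀ (by rw [← hμ, hg])⟩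
  have hSP : ∀ g ∈ S, g ∈ P := fun g hg => ⟨1, by rw [one_smul]; exact hg⟩
  have hμ1 : ∀ g : P, μ g = 1 ↔ (g : G) ∈ S := fun g => by
    rw [hS, MulAction.mem_stabilizer_iff, hμ g]
    exact ⟨fun h => by rw [h, one_smul], fun h => hfree _ _ x₀ (by rw [h, one_smul])⟩
  have hcardP : Nat.card P = Nat.card A * Nat.card S := by
    rw [← μ.ker.index_mul_card, Subgroup.index_ker, MonoidHom.range_eq_top.mpr hμs, Subgroup.card_top]
    congr 1
    exact Nat.card_congr
      { toFun := fun g => ⟨(g.1 : G), (hμ1 g.1).mp g.2⟩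
        invFun := fun g => ⟨⟨g.1, hSP g.1 g.2⟩, (hμ1 _).mpr g.2⟩
        left_inv := fun g => rfl
        right_inv := fun g => rfl }
  haveI := Fintype.ofFinite P
  let χ : (A →* ℂˣ) → G → ℂ := fun θ => indFun P (fun h : P => ((θ (μ h) : ℂˣ) : ℂ))
  have hchar : ∀ θ, IsCharacter G (χ θ) := fun θ =>
    isCharacter_indFun P (IsIrrCharacter.isCharacter (isIrrCharacter_monoidHom (θ.comp μ)))
  -- the permutation character
  set π : G → ℂ := fun g => (Nat.card (MulAction.fixedBy X g) : ℂ) with hπ
  have hsumθ : ∀ a : A, ∑ θ : A →* ℂˣ, ((θ a : ℂˣ) : ℂ) = if a = 1 then (Nat.card A : ℂ) else 0 := by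
    intro a
    split_ifs with h
    · subst h
      simp [← Nat.card_eq_fintype_card, hcardC]
    · obtain ⟨θ₀, hθ₀⟩ := CommGroup.exists_apply_ne_one_of_hasEnoughRootsOfUnity A ℂ h
      have h1 : ∑ θ : A →* ℂˣ, ((θ a : ℂˣ) : ℂ) = (θ₀ a : ℂ) * ∑ θ : A →* ℂˣ, ((θ a : ℂˣ) : ℂ) := by
        rw [Finset.mul_sum]
        refine (Equiv.sum_comp (Equiv.mulLeft θ₀) (fun θ : A →* ℂˣ => ((θ a : ℂˣ) : ℂ))).symm.trans
          (Finset.sum_congr rfl fun θ _ => ?_)
        simp
      have h2 : ((θ₀ a : ℂ) - 1) * ∑ θ : A →* ℂˣ, ((θ a : ℂˣ) : ℂ) = 0 := by linear_combination -h1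
      exact (mul_eq_zero.mp h2).resolve_left (sub_ne_zero.mpr fun e => hθ₀ (Units.ext e))
  have hπsum : ∀ g, π g = ∑ θ, χ θ g := by
    intro g
    have h1 : π g = indFun S (fun _ => (1 : ℂ)) g := by
      rw [hS, indFun_stabilizer_one, hπ]
      refine congrArg Nat.cast (Nat.card_congr (Equiv.subtypeEquivRight fun y => ?_))
      exact (and_iff_right (htr x₀ y)).symm
    rw [h1]
    simp only [χ, indFun_apply]
    rw [← Finset.mul_sum, Finset.sum_comm, hcardP]
    have hext : ∀ y : G, ∑ θ : A →* ℂˣ, extendByZero P (fun h : P => ((θ (μ h) : ℂˣ) : ℂ)) y =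
        (Nat.card A : ℂ) * extendByZero S (fun _ => (1 : ℂ)) y := by
      intro y
      by_cases hy : y ∈ P
      · simp only [extendByZero_of_mem _ _ hy]
        rw [hsumθ]
        by_cases hyS : y ∈ S
        · rw [if_pos ((hμ1 ⟨y, hy⟩).mpr hyS), extendByZero_of_mem _ _ hyS, mul_one]
        · rw [if_neg (fun h => hyS ((hμ1 ⟨y, hy⟩).mp h)), extendByZero_of_notMem _ _ hyS, mul_zero]
      · simp only [extendByZero_of_notMem _ _ hy, Finset.sum_const_zero]
        rw [extendByZero_of_notMem _ _ (fun h => hy (hSP y h)), mul_zero]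
    simp only [hext]
    rw [← Finset.mul_sum, Nat.cast_mul]
    have : (Nat.card A : ℂ) ≠ 0 := Nat.cast_ne_zero.mpr Nat.card_pos.ne'
    field_simp
  -- orbits on pairs
  have hππ : classInner π π = (Nat.card A + 1 : ℕ) := by
    let f : X × X → Option A := fun p => if h : ∃ a : A, p.2 = a • p.1 then some h.choose else none
    have hfsome : ∀ (p : X × X) (a : A), p.2 = a • p.1 → f p = some a := fun p a h => by
      simp only [f, dif_pos (⟨a, h⟩ : ∃ a : A, p.2 = a • p.1)]
      exact congrArg some (hfree _ _ p.1 ((Exists.choose_spec (⟨a, h⟩ : ∃ a : A, p.2 = a • p.1)).symm.trans h))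
    have hfnone : ∀ p : X × X, (∀ a : A, p.2 ≠ a • p.1) → f p = none := fun p h =>
      dif_neg fun ⟨a, ha⟩ => h a ha
    have hinv : ∀ p p' : X × X, MulAction.orbitRel G (X × X) p p' → f p = f p' := by
      rintro p p' ⟨g, rfl⟩
      by_cases h : ∃ a : A, p'.2 = a • p'.1
      · obtain ⟨a, ha⟩ := h
        rw [hfsome p' a ha]
        exact hfsome _ a (by simp only [Prod.smul_fst, Prod.smul_snd, ha, smul_comm])
      · push Not at h
        rw [hfnone p' h]
        refine hfnone _ fun a ha => h a ?_
        simp only [Prod.smul_fst, Prod.smul_snd] at ha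
        rw [← smul_comm g a p'.1] at ha
        exact MulAction.injective g ha
    let F : MulAction.orbitRel.Quotient G (X × X) → Option A := Quotient.lift f hinv
    have hF : Function.Bijective F := by
      refine ⟨?_, fun o => ?_⟩
      · rintro ⟨p⟩ ⟨p'⟩ h
        change f p = f p' at h
        refine Quotient.sound ?_
        show p ∈ MulAction.orbit G p'
        by_cases hp : ∃ a : A, p.2 = a • p.1
        · obtain ⟨a, ha⟩ := hp
          rw [hfsome p a ha] at h
          by_cases hp' : ∃ a : A, p'.2 = a • p'.1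
          · obtain ⟨a', ha'⟩ := hp'
            rw [hfsome p' a' ha', Option.some.injEq] at h
            subst h
            obtain ⟨g, hg⟩ := htr p'.1 p.1
            exact ⟨g, Prod.ext hg (by simp only [Prod.smul_snd, ha', smul_comm g a, hg, ha])⟩
          · push Not at hp'
            simp [hfnone p' hp'] at h
        · push Not at hp
          rw [hfnone p hp] at h
          by_cases hp' : ∃ a : A, p'.2 = a • p'.1
          · obtain ⟨a', ha'⟩ := hp'
            simp [hfsome p' a' ha'] at h
          · push Not at hp'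
            obtain ⟨g, hg1, hg2⟩ := hind p'.1 p'.2 p.1 p.2 hp' hp
            exact ⟨g, Prod.ext hg1 hg2⟩
      · cases o with
        | none => exact ⟨Quotient.mk _ (x₀, y₀), hfnone _ hxy⟩
        | some a => exact ⟨Quotient.mk _ (x₀, a • x₀), hfsome _ a rfl⟩
    have hb := MulAction.sum_card_fixedBy_eq_card_orbits_mul_card_group G (X × X)
    simp only [← Nat.card_eq_fintype_card] at hb
    rw [Nat.card_congr (Equiv.ofBijective F hF), Finite.card_option] at hb
    have hsq : ∀ g : G, Nat.card (MulAction.fixedBy (X × X) g) =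
        Nat.card (MulAction.fixedBy X g) * Nat.card (MulAction.fixedBy X g) := fun g => by
      rw [← Nat.card_prod]
      exact Nat.card_congr
        { toFun := fun p => (⟨p.1.1, congrArg Prod.fst p.2⟩, ⟨p.1.2, congrArg Prod.snd p.2⟩)
          invFun := fun p => ⟨(p.1.1, p.2.1), Prod.ext p.1.2 p.2.2⟩
          left_inv := fun p => rfl
          right_inv := fun p => rfl }
    simp only [hsq] at hb
    have hb' : ∑ g : G, π g * conj (π g) = ((Nat.card A + 1) * Nat.card G : ℕ) := by
      rw [← hb, Nat.cast_sum]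
      exact Finset.sum_congr rfl fun g _ => by simp [hπ]
    rw [classInner, hb', Nat.cast_mul]
    have : (Nat.card G : ℂ) ≠ 0 := Nat.cast_ne_zero.mpr Nat.card_pos.ne'
    field_simp
  -- split off the principal character
  have hone : classInner (χ 1) (1 : G → ℂ) = 1 := by
    rw [classInner_indFun P _ (IsCharacter.isClassFunction isCharacter_one)]
    simp [classInner]
  let κ : (A →* ℂˣ) → G → ℂ := fun θ => if θ = 1 then χ 1 - 1 else χ θ
  have hψ : IsCharacter G (χ 1 - 1) := by
    refine isCharacter_of_classInner_nat (fun g h => by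
      simp only [Pi.sub_apply, Pi.one_apply, (IsCharacter.isClassFunction (hchar 1)) g h]) fun φ hφ => ?_
    rw [classInner_sub_left]
    by_cases h1 : φ = 1
    · exact ⟨0, by rw [h1, hone, IsIrrCharacter.classInner_self isIrrCharacter_one]; simp⟩
    · obtain ⟨n, hn⟩ := classInner_natCast_of_isCharacter (hchar 1) (IsIrrCharacter.isCharacter hφ)
      exact ⟨n, by rw [hn, IsIrrCharacter.classInner_eq_zero isIrrCharacter_one hφ (Ne.symm h1), sub_zero]⟩
  have hκchar : ∀ θ, IsCharacter G (κ θ) := fun θ => by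
    simp only [κ]; split_ifs
    · exact hψ
    · exact hchar θ
  have hκne : ∀ θ, κ θ ≠ 0 := fun θ h => by
    have h1 := congrFun h 1
    simp only [κ] at h1
    split_ifs at h1 with hθ
    · simp only [Pi.sub_apply, Pi.one_apply, χ, indFun_one_apply, MonoidHom.one_apply, Units.val_one,
        mul_one, Pi.zero_apply, sub_eq_zero, Nat.cast_eq_one] at h1
      obtain ⟨g, hg⟩ := htr x₀ y₀
      obtain ⟨a, ha⟩ : g ∈ P := (Subgroup.index_eq_one.mp h1) ▸ Subgroup.mem_top g
      exact hxy a (hg.symm.trans ha)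
    · simp only [χ, indFun_one_apply, Pi.zero_apply, mul_eq_zero, Units.ne_zero, or_false, Nat.cast_eq_zero] at h1
      exact Subgroup.index_ne_zero_of_finite h1
  let c : Option (A →* ℂˣ) → G → ℂ := fun o => o.elim 1 κ
  have hcchar : ∀ o, IsCharacter G (c o) := fun o => by
    cases o with
    | none => exact isCharacter_one
    | some θ => exact hκchar θ
  have hcne : ∀ o, c o ≠ 0 := fun o => by
    cases o with
    | none => exact fun h => one_ne_zero (congrFun h 1 : (1 : ℂ) = 0)
    | some θ => exact hκne θ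
  have hπc : π = ∑ o, c o := by
    funext g
    rw [Finset.sum_apply, Fintype.sum_option, hπsum g,
      ← Finset.add_sum_erase Finset.univ (fun θ => χ θ g) (Finset.mem_univ 1),
      ← Finset.add_sum_erase Finset.univ (fun θ => c (some θ) g) (Finset.mem_univ 1),
      Finset.sum_congr rfl fun θ hθ => show c (some θ) g = χ θ g by simp [c, κ, Finset.ne_of_mem_erase hθ]]
    simp only [c, κ, Option.elim_none, Option.elim_some, if_true, Pi.sub_apply, Pi.one_apply]
    ring
  choose N hN using fun o o' => classInner_natCast_of_isCharacter (hcchar o) (hcchar o')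
  have hdiag : ∀ o, 1 ≤ N o o := fun o => by
    rw [Nat.one_le_iff_ne_zero]
    intro h
    exact hcne o (classInner_self_eq_zero (by rw [hN, h, Nat.cast_zero]))
  have htot : ∑ o, ∑ o', N o o' = Fintype.card (Option (A →* ℂˣ)) := by
    have h := hππ
    rw [hπc, classInner_sum_left] at h
    simp only [classInner_sum_right, hN, ← Nat.cast_sum] at h
    rw [Nat.cast_inj] at h
    rw [h, Fintype.card_option, ← Nat.card_eq_fintype_card (α := A →* ℂˣ), hcardC]
  have hle : ∀ o ∈ (Finset.univ : Finset (Option (A →* ℂˣ))), 1 ≤ ∑ o', N o o' := fun o _ =>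
    (hdiag o).trans (Finset.single_le_sum (fun o' _ => Nat.zero_le _) (Finset.mem_univ o))
  have hrow : ∀ o, ∑ o', N o o' = 1 := fun o => by
    refine (((Finset.sum_eq_sum_iff_of_le hle).mp ?_) o (Finset.mem_univ o)).symm
    rw [htot, Finset.sum_const, smul_eq_mul, mul_one, Finset.card_univ]
  refine ⟨κ, fun θ => ?_, fun θ θ' h => ?_, hcardC, fun g => ?_⟩
  · refine isIrrCharacter_iff.mpr ⟨hκchar θ, ?_⟩
    have h1 := Finset.single_le_sum (f := fun o' => N (some θ) o') (fun o' _ => Nat.zero_le _) (Finset.mem_univ (some θ))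
    rw [hrow] at h1
    have h2 : N (some θ) (some θ) = 1 := le_antisymm h1 (hdiag _)
    exact (hN (some θ) (some θ)).trans (by rw [h2, Nat.cast_one])
  · by_contra hne'
    have h1 := Finset.add_le_sum (f := fun o' => N (some θ) o') (fun o' _ => Nat.zero_le _)
      (Finset.mem_univ (some θ)) (Finset.mem_univ (some θ')) (by simpa using hne')
    rw [hrow] at h1
    have h2 : N (some θ) (some θ) = N (some θ) (some θ') := by
      apply Nat.cast_injective (R := ℂ)
      rw [← hN, ← hN]
      show classInner (κ θ) (κ θ) = classInner (κ θ) (κ θ')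
      rw [h]
    have := hdiag (some θ)
    omega
  · rw [finsum_eq_sum_of_fintype]
    have := congrFun hπc g
    rw [Finset.sum_apply, Fintype.sum_option] at this
    exact this

end Cfsg.Agent.PermFreeTorus
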