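import Cfsg.Agent.Lib.Involution.PermFreeTorus
import Mathlib.LinearAlgebra.FiniteDimensional.Basic
import Mathlib.LinearAlgebra.Matrix.ToLin
import Mathlib.LinearAlgebra.Matrix.SpecialLinearGroup

/-!
# SL acting on the nonzero vectors
-/

set_option autoImplicit false
set_option linter.unusedSectionVars false

namespace Cfsg.Agent.SLVectorAction

open Matrix

variable {F : Type*} [Field F] {n : ℕ}

/-- The nonzero vectors. -/
abbrev NZ (F : Type*) [Field F] (n : ℕ) : Type _ := {v : Fin n → F // v ≠ 0}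

instance slAction : MulAction (Matrix.SpecialLinearGroup (Fin n) F) (NZ F n) where
  smul g v := ⟨(g : Matrix (Fin n) (Fin n) F) *ᵥ v.1, fun h => v.2 (by
    have h1 := congrArg (fun w : Fin n → F => ((g⁻¹ : Matrix.SpecialLinearGroup (Fin n) F) : Matrix (Fin n) (Fin n) F) *ᵥ w) h
    simp only [Matrix.mulVec_mulVec, ← Matrix.SpecialLinearGroup.coe_mul, inv_mul_cancel,
      Matrix.SpecialLinearGroup.coe_one, Matrix.one_mulVec, Matrix.mulVec_zero] at h1
    exact h1)⟩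
  one_smul v := Subtype.ext (by
    show ((1 : Matrix.SpecialLinearGroup (Fin n) F) : Matrix (Fin n) (Fin n) F) *ᵥ v.1 = v.1
    rw [Matrix.SpecialLinearGroup.coe_one, Matrix.one_mulVec])
  mul_smul g h v := Subtype.ext (by
    show ((g * h : Matrix.SpecialLinearGroup (Fin n) F) : Matrix (Fin n) (Fin n) F) *ᵥ v.1 = (g : Matrix (Fin n) (Fin n) F) *ᵥ ((h : Matrix (Fin n) (Fin n) F) *ᵥ v.1)
    rw [Matrix.mulVec_mulVec, Matrix.SpecialLinearGroup.coe_mul])

instance scalarAction : MulAction Fˣ (NZ F n) where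
  smul a v := ⟨(a : F) • v.1, smul_ne_zero a.ne_zero v.2⟩
  one_smul v := Subtype.ext (by show ((1 : Fˣ) : F) • v.1 = v.1; rw [Units.val_one, one_smul])
  mul_smul a b v := Subtype.ext (by
    show ((a * b : Fˣ) : F) • v.1 = (a : F) • (b : F) • v.1
    rw [Units.val_mul, mul_smul])

instance smulComm : SMulCommClass (Matrix.SpecialLinearGroup (Fin n) F) Fˣ (NZ F n) :=
  ⟨fun g a v => Subtype.ext (Matrix.mulVec_smul (g : Matrix (Fin n) (Fin n) F) (a : F) v.1)⟩

theorem exists_mat {v w : Fin n → F} (h : LinearIndependent F ![v, w]) {i₀ i₁ : Fin n} (h01 : i₀ ≠ i₁) :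
    ∃ M N : Matrix (Fin n) (Fin n) F, M * N = 1 ∧ M *ᵥ Pi.single i₀ 1 = v ∧ M *ᵥ Pi.single i₁ 1 = w := by
  have h0 : LinearIndependent F ![(Pi.single i₀ 1 : Fin n → F), Pi.single i₁ 1] := by
    rw [LinearIndependent.pair_iff]
    intro s t hst
    have e0 := congrFun hst i₀
    have e1 := congrFun hst i₁
    simp [h01, Ne.symm h01] at e0 e1
    exact ⟨e0, e1⟩
  haveI : FiniteDimensional F (Submodule.span F (Set.range ![(Pi.single i₀ 1 : Fin n → F), Pi.single i₁ 1])) :=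
    FiniteDimensional.span_of_finite F (Set.finite_range _)
  obtain ⟨g, hg⟩ := Submodule.exists_linearEquiv_restrict_eq (h0.linearCombinationEquiv.symm ≪≫ₗ h.linearCombinationEquiv)
  refine ⟨LinearMap.toMatrix' g.toLinearMap, LinearMap.toMatrix' g.symm.toLinearMap, ?_, ?_, ?_⟩
  · rw [← LinearMap.toMatrix'_comp]
    simp
  · rw [LinearMap.toMatrix'_mulVec]
    have e0 : ((h0.linearCombinationEquiv (Finsupp.single 0 1)) : Fin n → F) = Pi.single i₀ 1 := by simp
    show g (Pi.single i₀ 1) = v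
    rw [← e0, ← hg]
    simp
  · rw [LinearMap.toMatrix'_mulVec]
    have e0 : ((h0.linearCombinationEquiv (Finsupp.single 1 1)) : Fin n → F) = Pi.single i₁ 1 := by simp
    show g (Pi.single i₁ 1) = w
    rw [← e0, ← hg]
    simp

theorem exists_sl (hn : 3 ≤ n) {v w v' w' : Fin n → F} (h : LinearIndependent F ![v, w])
    (h' : LinearIndependent F ![v', w']) :
    ∃ g : Matrix.SpecialLinearGroup (Fin n) F, (g : Matrix (Fin n) (Fin n) F) *ᵥ v = v' ∧
      (g : Matrix (Fin n) (Fin n) F) *ᵥ w = w' := by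
  let i₀ : Fin n := ⟨0, by omega⟩
  let i₁ : Fin n := ⟨1, by omega⟩
  let i₂ : Fin n := ⟨2, by omega⟩
  have h01 : i₀ ≠ i₁ := by simp [i₀, i₁, Fin.ext_iff]
  have h02 : i₀ ≠ i₂ := by simp [i₀, i₂, Fin.ext_iff]
  have h12 : i₁ ≠ i₂ := by simp [i₁, i₂, Fin.ext_iff]
  obtain ⟨M, N, hMN, hMv, hMw⟩ := exists_mat h h01
  obtain ⟨M', N', hMN', hMv', hMw'⟩ := exists_mat h' h01
  have hd : M.det * N.det = 1 := by rw [← Matrix.det_mul, hMN, Matrix.det_one]
  have hd' : M'.det * N'.det = 1 := by rw [← Matrix.det_mul, hMN', Matrix.det_one]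
  let D : Matrix (Fin n) (Fin n) F := Matrix.diagonal (Function.update 1 i₂ (M.det * N'.det))
  have hD : D.det = M.det * N'.det := by
    rw [Matrix.det_diagonal, Finset.prod_update_of_mem (Finset.mem_univ _)]
    simp
  have hD0 : ∀ i, i ≠ i₂ → D *ᵥ Pi.single i 1 = Pi.single i 1 := fun i hi => by
    ext j
    rw [Matrix.mulVec_single_one]
    by_cases hji : j = i
    · subst hji; simp [D, Function.update_of_ne hi]
    · simp [D, Matrix.diagonal_apply_ne _ hji, hji]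
  have hNv : N *ᵥ v = Pi.single i₀ 1 := by
    rw [← hMv, Matrix.mulVec_mulVec, mul_eq_one_comm.mp hMN, Matrix.one_mulVec]
  have hNw : N *ᵥ w = Pi.single i₁ 1 := by
    rw [← hMw, Matrix.mulVec_mulVec, mul_eq_one_comm.mp hMN, Matrix.one_mulVec]
  refine ⟨⟨M' * D * N, ?_⟩, ?_, ?_⟩
  · rw [Matrix.det_mul, Matrix.det_mul, hD]
    linear_combination (M.det * N.det) * hd' + hd
  · show (M' * D * N) *ᵥ v = v'
    rw [← Matrix.mulVec_mulVec, hNv, ← Matrix.mulVec_mulVec, hD0 _ h02, hMv']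
  · show (M' * D * N) *ᵥ w = w'
    rw [← Matrix.mulVec_mulVec, hNw, ← Matrix.mulVec_mulVec, hD0 _ h12, hMw']

theorem indep_of_not_mem {x y : NZ F n} (h : ∀ a : Fˣ, y ≠ a • x) : LinearIndependent F ![x.1, y.1] := by
  rw [LinearIndependent.pair_iff' x.2]
  intro a ha
  by_cases ha0 : a = 0
  · rw [ha0, zero_smul] at ha
    exact y.2 ha.symm
  · exact h (Units.mk0 a ha0) (Subtype.ext ha.symm)

theorem free (a b : Fˣ) (x : NZ F n) (h : a • x = b • x) : a = b :=
  Units.ext (smul_left_injective F x.2 (congrArg Subtype.val h))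

theorem exists_indep (hn : 3 ≤ n) (x : NZ F n) : ∃ y : NZ F n, ∀ a : Fˣ, y ≠ a • x := by
  by_contra h
  push Not at h
  have hne : ∀ i : Fin n, (Pi.single i (1 : F) : Fin n → F) ≠ 0 := fun i => Pi.single_ne_zero_iff.mpr one_ne_zero
  obtain ⟨a, ha⟩ := h ⟨_, hne ⟨0, by omega⟩⟩
  obtain ⟨b, hb⟩ := h ⟨_, hne ⟨1, by omega⟩⟩
  have e0 : (1 : F) = (a : F) * x.1 ⟨0, by omega⟩ := by
    have := congrFun (congrArg Subtype.val ha) ⟨0, by omega⟩
    change (Pi.single (⟨0, by omega⟩ : Fin n) (1 : F) : Fin n → F) ⟨0, by omega⟩ = _ at this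
    rw [Pi.single_eq_same] at this
    exact this
  have e1 : (0 : F) = (b : F) * x.1 ⟨0, by omega⟩ := by
    have := congrFun (congrArg Subtype.val hb) ⟨0, by omega⟩
    change (Pi.single (⟨1, by omega⟩ : Fin n) (1 : F) : Fin n → F) ⟨0, by omega⟩ = _ at this
    rw [Pi.single_eq_of_ne (by simp [Fin.ext_iff])] at this
    exact this
  rcases mul_eq_zero.mp e1.symm with h | h
  · exact b.ne_zero h
  · rw [h, mul_zero] at e0
    exact one_ne_zero e0

theorem decomposition [Fintype F] [DecidableEq F] (hn : 3 ≤ n) :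
    ∃ κ : (Fˣ →* ℂˣ) → Matrix.SpecialLinearGroup (Fin n) F → ℂ,
      (∀ θ, Cfsg.IsIrrCharacter (Matrix.SpecialLinearGroup (Fin n) F) (κ θ)) ∧ Function.Injective κ ∧
      Nat.card (Fˣ →* ℂˣ) = Nat.card Fˣ ∧
      ∀ g, (Nat.card (MulAction.fixedBy (NZ F n) g) : ℂ) = 1 + ∑ᶠ θ, κ θ g := by
  have htr : ∀ x y : NZ F n, ∃ g : Matrix.SpecialLinearGroup (Fin n) F, g • x = y := by
    intro x y
    obtain ⟨x', hx'⟩ := exists_indep hn x
    obtain ⟨y', hy'⟩ := exists_indep hn y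
    obtain ⟨g, hg, -⟩ := exists_sl hn (indep_of_not_mem hx') (indep_of_not_mem hy')
    exact ⟨g, Subtype.ext hg⟩
  refine PermFreeTorus.decomposition free htr (fun x y x' y' h h' => ?_) ?_
  · obtain ⟨g, hg, hg'⟩ := exists_sl hn (indep_of_not_mem h) (indep_of_not_mem h')
    exact ⟨g, Subtype.ext hg, Subtype.ext hg'⟩
  · exact ⟨⟨Pi.single ⟨0, by omega⟩ 1, Pi.single_ne_zero_iff.mpr one_ne_zero⟩, exists_indep hn _⟩

end Cfsg.Agent.SLVectorAction
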