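import Cfsg.Agent.Lib.Char.Zassenhaus

/-!
# Zassenhaus groups whose two point stabiliser lies in the derived group
-/

set_option autoImplicit false
set_option linter.style.haveILetI false
set_option linter.unusedSectionVars false

namespace Cfsg.Agent.ZassTransfer

open Cfsg Cfsg.Agent.Char.Zass
open scoped commutatorElement Pointwise

universe u v

variable {G : Type u} {Ω : Type v} [Group G] [Finite G] [MulAction G Ω] [Fintype Ω]
  (hZ : Cfsg.IsZassenhausGroup G Ω) {a b : Ω} (hab : a ≠ b)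

include hZ hab in
/-- The transfer from the two point stabilizer. -/
theorem transfer_pair (hE : two G a b ≤ commutator G) {s : G} (hsa : s • a = b) (hsb : s • b = a)
    (ν : two G a b →* ℂˣ) (x : two G a b) :
    ν x * ν ⟨s⁻¹ * x * s, conj_mem_of_swap hsa hsb x.2⟩ = 1 := by
  classical
  by_cases hx1 : (x : G) = 1
  · have h1 : x = 1 := Subtype.ext hx1
    subst h1
    rw [show (⟨s⁻¹ * ((1 : two G a b) : G) * s, conj_mem_of_swap hsa hsb (1 : two G a b).2⟩ : two G a b) = 1 from
      Subtype.ext (by simp), map_one, mul_one]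
  haveI := Fintype.ofFinite (Quotient (MulAction.orbitRel (Subgroup.zpowers (x : G)) (G ⧸ two G a b)))
  have htriv : MonoidHom.transfer ν (x : G) = 1 := by
    have h := Abelianization.commutator_subset_ker (MonoidHom.transfer ν)
    exact MonoidHom.mem_ker.mp (h (hE x.2))
  rw [MonoidHom.transfer_eq_prod_quotient_orbitRel_zpowers_quot] at htriv
  let Q := Quotient (MulAction.orbitRel (Subgroup.zpowers (x : G)) (G ⧸ two G a b))
  let cls : G ⧸ two G a b → Q := fun q => Quotient.mk _ q
  have hfix : ∀ g : G, g⁻¹ * x * g ∈ two G a b → (x : G) • (g : G ⧸ two G a b) = (g : G ⧸ two G a b) := by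
    intro g hg
    rw [MulAction.Quotient.smul_coe, QuotientGroup.eq, smul_eq_mul]
    have := Subgroup.inv_mem _ hg
    simpa [mul_assoc] using this
  have hout : ∀ g : G, g⁻¹ * x * g ∈ two G a b →
      (cls (g : G ⧸ two G a b)).out = (g : G ⧸ two G a b) ∧
        Function.minimalPeriod ((x : G) • ·) (g : G ⧸ two G a b) = 1 := by
    intro g hg
    refine ⟨?_, Function.minimalPeriod_eq_one_iff_isFixedPt.mpr (hfix g hg)⟩
    have hrel : MulAction.orbitRel (Subgroup.zpowers (x : G)) (G ⧸ two G a b) (cls (g : G ⧸ two G a b)).out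
        (g : G ⧸ two G a b) :=
      Quotient.exact ((cls (g : G ⧸ two G a b)).out_eq)
    obtain ⟨⟨y, hy⟩, hy'⟩ := hrel
    obtain ⟨k, rfl⟩ := Subgroup.mem_zpowers_iff.mp hy
    rw [← hy']
    exact MulAction.mem_stabilizer_iff.mp
      ((MulAction.stabilizer G (g : G ⧸ two G a b)).zpow_mem (MulAction.mem_stabilizer_iff.mpr (hfix g hg)) k)
  have hsx : s⁻¹ * x * s ∈ two G a b := conj_mem_of_swap hsa hsb x.2
  have h1x : (1 : G)⁻¹ * x * 1 ∈ two G a b := by simp
  have hne : cls ((1 : G) : G ⧸ two G a b) ≠ cls (s : G ⧸ two G a b) := by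
    intro he
    have h := (hout 1 h1x).1
    rw [he, (hout s hsx).1, QuotientGroup.eq, mul_one] at h
    exact hab ((mem_two.mp (inv_mem_iff.mp h)).1.symm.trans hsa)
  have hterm : ∀ (g : G) (hg : g⁻¹ * x * g ∈ two G a b) (hp : _),
      ν ⟨(cls (g : G ⧸ two G a b)).out.out⁻¹ *
          (x : G) ^ Function.minimalPeriod ((x : G) • ·) (cls (g : G ⧸ two G a b)).out *
          (cls (g : G ⧸ two G a b)).out.out, hp⟩ = ν ⟨g⁻¹ * x * g, hg⟩ := by
    intro g hg hp
    obtain ⟨n, hn⟩ := QuotientGroup.mk_out_eq_mul (two G a b) g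
    calc ν ⟨_, hp⟩ = ν (n⁻¹ * ⟨g⁻¹ * x * g, hg⟩ * n) := by
          congr 1
          refine Subtype.ext ?_
          simp only [Subgroup.coe_mul, Subgroup.coe_inv]
          rw [(hout g hg).1, (hout g hg).2, pow_one, hn]
          group
      _ = ν ⟨g⁻¹ * x * g, hg⟩ := by rw [map_mul, map_mul, map_inv, mul_comm, ← mul_assoc, mul_inv_cancel, one_mul]
  rw [Fintype.prod_eq_mul (cls ((1 : G) : G ⧸ two G a b)) (cls (s : G ⧸ two G a b)) hne, hterm 1 h1x,
    hterm s hsx] at htriv
  · rwa [show (⟨(1 : G)⁻¹ * x * 1, h1x⟩ : two G a b) = x from Subtype.ext (by simp)] at htriv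
  · rintro q ⟨hq1, hqs⟩
    set g : G := q.out.out with hg
    set k := Function.minimalPeriod ((x : G) • ·) q.out with hk
    by_cases h1 : (x : G) ^ k = 1
    · rw [show (⟨g⁻¹ * (x : G) ^ k * g, QuotientGroup.out_conj_pow_minimalPeriod_mem (two G a b) (x : G) q.out⟩ :
        two G a b) = 1 from Subtype.ext (by simp [h1]), map_one]
    exfalso
    have hgq : cls (g : G ⧸ two G a b) = q := by
      show Quotient.mk _ _ = q
      rw [hg, QuotientGroup.out_eq', Quotient.out_eq]
    rcases fix_or_swap hZ hab (Subgroup.pow_mem _ x.2 k) h1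
      (QuotientGroup.out_conj_pow_minimalPeriod_mem (two G a b) (x : G) q.out) with ⟨ha', hb'⟩ | ⟨ha', hb'⟩
    · refine hq1 ?_
      rw [← hgq]
      exact congrArg cls (QuotientGroup.eq.mpr (by simpa using mem_two.mpr ⟨ha', hb'⟩))
    · refine hqs ?_
      rw [← hgq]
      refine congrArg cls (QuotientGroup.eq.mpr (mem_two.mpr ⟨?_, ?_⟩))
      · rw [mul_smul, hsa, ← ha', inv_smul_smul]
      · rw [mul_smul, hsb, ← hb', inv_smul_smul]


include hZ hab in
/-- Every element exchanging the two points inverts the two point stabilizer, and is an involution. -/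
theorem swap_inverts (hC : two G a b ≤ commutator G) (hn : 3 ≤ Fintype.card Ω) (hodd : Odd (Nat.card (two G a b)))
    {s : G} (hsa : s • a = b) (hsb : s • b = a) :
    (∀ x ∈ two G a b, s⁻¹ * x * s = x⁻¹) ∧ s * s = 1 := by
  classical
  obtain ⟨H, hHa, hHcard, hHfix⟩ := exists_kernel hZ hab hn
  haveI := isZGroup hZ hab H hHa hHcard hHfix hn hodd
  set E := two G a b with hE
  let N : Subgroup G := Subgroup.normalizer (E : Set G)
  have hEN : E ≤ N := Subgroup.le_normalizer
  have hsN : s ∈ N := by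
    refine Subgroup.mem_normalizer_iff.mpr fun x => ⟨fun hx => ?_, fun hx => ?_⟩
    · have := conj_mem_of_swap (g := s⁻¹) (inv_smul_eq_iff.mpr hsb.symm) (inv_smul_eq_iff.mpr hsa.symm) hx
      rwa [inv_inv] at this
    · have := conj_mem_of_swap hsa hsb hx
      rwa [show s⁻¹ * (s * x * s⁻¹) * s = x by group] at this
  -- the stabilizer lies in the derived group of its normalizer
  have hEN' : ∀ x : G, ∀ hx : x ∈ E, (⟨x, hEN hx⟩ : N) ∈ commutator N := by
    intro x hx
    by_contra hh
    have hne : Abelianization.of (⟨x, hEN hx⟩ : N) ≠ 1 := fun e => hh (by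
      have : (⟨x, hEN hx⟩ : N) ∈ (Abelianization.of : N →* _).ker := MonoidHom.mem_ker.mpr e
      rwa [Abelianization.ker_of] at this)
    obtain ⟨χ, hχ⟩ := CommGroup.exists_apply_ne_one_of_hasEnoughRootsOfUnity (Abelianization N) ℂ hne
    let ν : E →* ℂˣ := (χ.comp Abelianization.of).comp (Subgroup.inclusion hEN)
    have h1 := transfer_pair hZ hab hC hsa hsb ν ⟨x, hx⟩
    have h2 : ν ⟨s⁻¹ * x * s, conj_mem_of_swap hsa hsb hx⟩ = ν ⟨x, hx⟩ := by
      simp only [ν, MonoidHom.comp_apply]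
      rw [show Subgroup.inclusion hEN ⟨s⁻¹ * x * s, conj_mem_of_swap hsa hsb hx⟩ =
        (⟨s, hsN⟩ : N)⁻¹ * ⟨x, hEN hx⟩ * ⟨s, hsN⟩ from rfl, map_mul, map_mul, map_mul, map_mul, map_inv, map_inv,
        mul_comm, ← mul_assoc, mul_inv_cancel, one_mul]
      rfl
    rw [h2, ← pow_two] at h1
    have h3 : ν ⟨x, hx⟩ ^ Nat.card E = 1 := by rw [← map_pow, pow_card_eq_one', map_one]
    obtain ⟨m, hm⟩ := hodd
    rw [hm, pow_succ, pow_mul, h1, one_pow, one_mul] at h3
    exact hχ h3
  -- the derived group of the stabilizer is central in it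
  let D : Subgroup G := (commutator E).map E.subtype
  haveI := IsZGroup.isCyclic_commutator E
  haveI : IsCyclic D := isCyclic_of_surjective
    ((commutator E).equivMapOfInjective E.subtype (Subgroup.subtype_injective _)).toMonoidHom
    (MulEquiv.surjective _)
  have hDN : ∀ g ∈ N, ∀ z ∈ D, g * z * g⁻¹ ∈ D := by
    intro g hg z hz
    have hD : D = ⁅E, E⁆ := by
      simp only [D]
      rw [commutator_def, Subgroup.map_commutator, ← MonoidHom.range_eq_map, Subgroup.range_subtype]
    rw [hD] at hz ⊢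
    have hmapE : E.map (MulAut.conj g).toMonoidHom = E := by
      ext y
      simp only [Subgroup.mem_map, MulEquiv.coe_toMonoidHom, MulAut.conj_apply]
      refine ⟨?_, fun hy => ⟨g⁻¹ * y * g, ?_, by group⟩⟩
      · rintro ⟨w, hw, rfl⟩
        exact (Subgroup.mem_normalizer_iff.mp hg w).mp hw
      · exact (Subgroup.mem_normalizer_iff.mp hg _).mpr (by simpa [mul_assoc] using hy)
    have h := Subgroup.mem_map_of_mem (MulAut.conj g).toMonoidHom hz
    rwa [Subgroup.map_commutator, hmapE] at h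
  have hact : ∀ g ∈ N, ∃ m : ℤ, ∀ z ∈ D, g * z * g⁻¹ = z ^ m := by
    intro g hg
    obtain ⟨d, hd⟩ := IsCyclic.exists_generator (α := D)
    obtain ⟨m, hm⟩ := Subgroup.mem_zpowers_iff.mp (hd ⟨g * (d : G) * g⁻¹, hDN g hg d d.2⟩)
    refine ⟨m, fun z hz => ?_⟩
    obtain ⟨i, hi⟩ := Subgroup.mem_zpowers_iff.mp (hd ⟨z, hz⟩)
    have hm' : g * (d : G) * g⁻¹ = (d : G) ^ m := by
      have := (congrArg Subtype.val hm).symm
      simpa using this
    have hi' : (d : G) ^ i = z := by simpa using congrArg Subtype.val hi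
    rw [← hi', ← conj_zpow, hm', ← zpow_mul, ← zpow_mul, mul_comm]
  have hcent : ∀ n ∈ commutator N, ∀ z ∈ D, (n : G) * z = z * n := by
    have hle : commutator N ≤ (Subgroup.centralizer (D : Set G)).subgroupOf N := by
      rw [commutator_def, Subgroup.commutator_le]
      intro g _ g' _
      rw [Subgroup.mem_subgroupOf, Subgroup.mem_centralizer_iff]
      intro z hz
      obtain ⟨m, hm⟩ := hact g g.2
      obtain ⟨m', hm'⟩ := hact g' g'.2
      have e1 : (g : G) * ((g' : G) * z * (g' : G)⁻¹) * (g : G)⁻¹ = (g' : G) * ((g : G) * z * (g : G)⁻¹) * (g' : G)⁻¹ := by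
        rw [hm' z hz, hm z hz, hm _ (D.zpow_mem hz _), hm' _ (D.zpow_mem hz _), ← zpow_mul, ← zpow_mul, mul_comm]
      have e2 : ∀ w ∈ D, ((g : G) * g' * (g : G)⁻¹ * (g' : G)⁻¹) * w =
          w * ((g : G) * g' * (g : G)⁻¹ * (g' : G)⁻¹) := by
        intro w hw
        have hwm : (g : G)⁻¹ * ((g' : G)⁻¹ * w * g') * g ∈ D := by
          have := hDN (g : G)⁻¹ (N.inv_mem g.2) _ (hDN (g' : G)⁻¹ (N.inv_mem g'.2) w hw)
          simpa [mul_assoc] using this
        obtain ⟨m1, hm1⟩ := hact g g.2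
        obtain ⟨m2, hm2⟩ := hact g' g'.2
        set z0 := (g : G)⁻¹ * ((g' : G)⁻¹ * w * g') * g with hz0
        have e3 : w = (g' : G) * ((g : G) * z0 * (g : G)⁻¹) * (g' : G)⁻¹ := by rw [hz0]; group
        have e4 : w = (g : G) * ((g' : G) * z0 * (g' : G)⁻¹) * (g : G)⁻¹ := by
          rw [hm2 z0 hwm, hm1 _ (D.zpow_mem hwm _), ← zpow_mul, mul_comm, zpow_mul, ← hm1 z0 hwm,
            ← hm2 _ (hDN g g.2 z0 hwm), ← e3]
        calc ((g : G) * g' * (g : G)⁻¹ * (g' : G)⁻¹) * w
            = ((g : G) * g' * (g : G)⁻¹ * (g' : G)⁻¹) * ((g' : G) * ((g : G) * z0 * (g : G)⁻¹) * (g' : G)⁻¹) := by rw [← e3]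
          _ = ((g : G) * ((g' : G) * z0 * (g' : G)⁻¹) * (g : G)⁻¹) * ((g : G) * g' * (g : G)⁻¹ * (g' : G)⁻¹) := by group
          _ = _ := by rw [← e4]
      simpa [commutatorElement_def] using (e2 z hz).symm
    exact fun n hn z hz => (Subgroup.mem_centralizer_iff.mp (hle hn) z hz).symm
  haveI : Group.IsNilpotent E := by
    refine Group.of_quotient_center_nilpotent ?_
    haveI : IsMulCommutative (E ⧸ Subgroup.center E) := by
      refine ⟨⟨fun q q' => ?_⟩⟩
      obtain ⟨x, rfl⟩ := QuotientGroup.mk_surjective q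
      obtain ⟨y, rfl⟩ := QuotientGroup.mk_surjective q'
      show QuotientGroup.mk' (Subgroup.center E) x * QuotientGroup.mk' (Subgroup.center E) y =
        QuotientGroup.mk' (Subgroup.center E) y * QuotientGroup.mk' (Subgroup.center E) x
      rw [← commutatorElement_eq_one_iff_mul_comm, ← map_commutatorElement, QuotientGroup.mk'_apply,
        QuotientGroup.eq_one_iff, Subgroup.mem_center_iff]
      intro w
      refine Subtype.ext ?_
      have := hcent ⟨w, hEN w.2⟩ (hEN' w w.2) (⁅x, y⁆ : E)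
        ⟨⁅x, y⁆, Subgroup.commutator_mem_commutator (Subgroup.mem_top x) (Subgroup.mem_top y), rfl⟩
      exact this
    letI : CommGroup (E ⧸ Subgroup.center E) := { (inferInstance : Group (E ⧸ Subgroup.center E)) with mul_comm := fun x y => mul_comm' x y }
    exact CommGroup.isNilpotent
  haveI : IsCyclic E := inferInstance
  have hinv : ∀ x ∈ E, s⁻¹ * x * s = x⁻¹ := by
    intro x hx
    by_contra hne
    letI := IsCyclic.commGroup (α := E)
    have hne' : (⟨x, hx⟩ : E) * ⟨s⁻¹ * x * s, conj_mem_of_swap hsa hsb hx⟩ ≠ 1 := fun e => hne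
      (eq_inv_of_mul_eq_one_right (congrArg Subtype.val e))
    obtain ⟨χ, hχ⟩ := CommGroup.exists_apply_ne_one_of_hasEnoughRootsOfUnity E ℂ hne'
    exact hχ (by rw [map_mul]; exact transfer_pair hZ hab hC hsa hsb χ ⟨x, hx⟩)
  refine ⟨hinv, ?_⟩
  have h2 : s * s ∈ E := mem_two.mpr ⟨by rw [mul_smul, hsa, hsb], by rw [mul_smul, hsb, hsa]⟩
  have h3 := hinv _ h2
  have h4 : (s * s) ^ 2 = 1 := by
    rw [pow_two]
    have : s * s = (s * s)⁻¹ := by
      calc s * s = s⁻¹ * (s * s) * s := by group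
        _ = _ := h3
    nth_rw 2 [this]
    rw [mul_inv_cancel]
  have h5 : (s * s) ^ Nat.card E = 1 := by
    have := congrArg Subtype.val (pow_card_eq_one' (x := (⟨s * s, h2⟩ : E)))
    rwa [SubmonoidClass.coe_pow] at this
  obtain ⟨m, hm⟩ := hodd
  rw [hm, pow_succ, pow_mul, h4, one_pow, one_mul] at h5
  exact h5


include hZ hab in
theorem three_le : 3 ≤ Fintype.card Ω := by
  classical
  by_contra h
  obtain ⟨x, hx, hx1⟩ := two_ne_bot hZ hab
  refine hx1 (hZ.1.eq_of_smul_eq_smul fun c => ?_)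
  rw [one_smul]
  by_cases hca : c = a
  · rw [hca, (mem_two.mp hx).1]
  by_cases hcb : c = b
  · rw [hcb, (mem_two.mp hx).2]
  exfalso
  have : ({a, b, c} : Finset Ω).card ≤ Fintype.card Ω := Finset.card_le_univ _
  rw [Finset.card_eq_three.mpr ⟨a, b, c, hab, Ne.symm hca, Ne.symm hcb, rfl⟩] at this
  omega

include hZ hab in
theorem le_commutator (hodd : Odd (Nat.card (two G a b)))
    (hnil : ∀ q : ℕ, q.Prime → q ∣ Nat.card (two G a b) →
      ¬ ∃ N : Subgroup G, N.Normal ∧ N.index = q ^ (Nat.card G).factorization q) :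
    two G a b ≤ commutator G := by
  classical
  obtain ⟨H, hHa, hHcard, hHfix⟩ := exists_kernel hZ hab (three_le hZ hab)
  haveI := isZGroup hZ hab H hHa hHcard hHfix (three_le hZ hab) hodd
  suffices h : (commutator G).subgroupOf (two G a b) = ⊤ from Subgroup.subgroupOf_eq_top.mp h
  rw [← Subgroup.index_eq_one]
  by_contra hi
  obtain ⟨q, hq, hqi⟩ := Nat.exists_prime_and_dvd hi
  haveI := Fact.mk hq
  have hqd : q ∣ Nat.card (two G a b) := hqi.trans (Subgroup.index_dvd_card _)
  obtain ⟨P⟩ := Sylow.nonempty (p := q) (G := two G a b)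
  let A : Subgroup G := (P : Subgroup (two G a b)).map (two G a b).subtype
  have hA : A ≤ two G a b := Subgroup.map_subtype_le _
  have hAp : IsPGroup q A := P.isPGroup'.map _
  have hAc : Nat.card A = Nat.card P := Subgroup.card_map_of_injective (Subgroup.subtype_injective _)
  have hA1 : A ≠ ⊥ := fun h => by
    rw [h, Subgroup.card_bot] at hAc
    exact hq.one_lt.ne' (Nat.dvd_one.mp (hAc ▸ P.dvd_card_of_dvd_card hqd))
  have hfix : MulAction.fixedPoints A Ω = {a, b} := by
    ext c
    simp only [MulAction.mem_fixedPoints, Set.mem_insert_iff, Set.mem_singleton_iff]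
    refine ⟨fun hc => ?_, ?_⟩
    · obtain ⟨x, hx, hx1⟩ := (Subgroup.nontrivial_iff_exists_ne_one A).mp
        ((Subgroup.nontrivial_iff_ne_bot A).mpr hA1)
      exact only_two hZ hab (hA hx) hx1 (hc ⟨x, hx⟩)
    · rintro (rfl | rfl) ⟨x, hx⟩
      · exact (mem_two.mp (hA hx)).1
      · exact (mem_two.mp (hA hx)).2
  have hmod := hAp.card_modEq_card_fixedPoints (α := Ω)
  rw [hfix, Nat.card_coe_set_eq ({a, b} : Set Ω), Set.ncard_pair hab, Nat.card_eq_fintype_card] at hmod
  have hq2 : q ≠ 2 := fun e => (Nat.not_even_iff_odd.mpr hodd) (even_iff_two_dvd.mpr (e ▸ hqd))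
  have h3 := three_le hZ hab
  have hdiv : q ∣ Fintype.card Ω - 2 := (Nat.modEq_iff_dvd' (by omega)).mp hmod.symm
  have hn0 : ¬ q ∣ Fintype.card Ω := fun h => hq2 ((Nat.prime_dvd_prime_iff_eq hq Nat.prime_two).mp (by
    have := Nat.dvd_sub h hdiv
    rwa [show Fintype.card Ω - (Fintype.card Ω - 2) = 2 by omega] at this))
  have hn1 : ¬ q ∣ Fintype.card Ω - 1 := fun h => hq.one_lt.ne' (Nat.dvd_one.mp (by
    have := Nat.dvd_sub h hdiv
    rwa [show Fintype.card Ω - 1 - (Fintype.card Ω - 2) = 1 by omega] at this))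
  have hidx : ¬ q ∣ A.index := by
    intro h
    have h1 := A.index_mul_card
    rw [hAc, (card_stab hZ hab).2, (card_stab hZ hab).1, ← (P : Subgroup (two G a b)).index_mul_card,
      ← mul_assoc, ← mul_assoc] at h1
    have h2 := Nat.eq_of_mul_eq_mul_right Nat.card_pos h1
    rw [h2] at h
    rcases (hq.dvd_mul.mp h) with h | h
    · rcases (hq.dvd_mul.mp h) with h | h
      · exact hn0 h
      · exact hn1 h
    · exact P.not_dvd_index h
  let S : Sylow q G := hAp.toSylow hidx
  haveI : IsCyclic S := isCyclic_of_surjective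
    ((P : Subgroup (two G a b)).equivMapOfInjective (two G a b).subtype
      (Subgroup.subtype_injective _)) (MulEquiv.surjective _)
  rcases Sylow.normalizer_le_centralizer_or_le_commutator S with h | h
  · refine hnil q hq hqd ⟨(MonoidHom.transferSylow S h).ker, inferInstance, ?_⟩
    rw [(MonoidHom.ker_transferSylow_isComplement' S h).symm.index_eq_card]
    exact S.card_eq_multiplicity
  · refine P.not_dvd_index (hqi.trans (Subgroup.index_dvd_of_le ?_))
    intro x hx
    exact h (Subgroup.mem_map_of_mem _ hx)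

end Cfsg.Agent.ZassTransfer
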